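import Cfsg.Agent.GW.Eight.Fusion
import Cfsg.Agent.DGroup.TopDihedral
import Cfsg.Agent.DGroup.Hyp
import Cfsg.Agent.DGroup.NoMember
import Cfsg.Agent.S0508

/-!
# The end for a dihedral Sylow 2-subgroup of order at least eight

When both classes of reflections invert `U` the group is `PSL(2, q)`; when exactly one does it is
`A₇`.
-/

set_option autoImplicit false
set_option linter.style.haveILetI false
set_option linter.unusedSectionVars false

namespace CfsgLib.GW.Eight.Ctx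

open Subgroup CfsgLib.DihPrincipal CfsgLib.GW
open CfsgLib.GW.CaseI (exists_split invol_mul conj_eq_of_commute)
open CfsgLib.NormCyclic (Inv)
open CfsgLib.DGroup (IsBase DHyp conj_mem conj_mem' odd_orderOf eq_one_of_sq eq_one_of_inv_eq)

universe u

variable {G : Type u} [Group G] [Fintype G] [Fact (Nat.Prime 2)] (C : Ctx G)
include C

theorem inverts_of_fix_eq_bot {v : G} (hv : v * v = 1) (hvH : v ∈ C.H)
    (h : C.U ⊓ centralizer ({v} : Set G) = ⊥) {x : G} (hx : x ∈ C.U) : v * x * v = x⁻¹ := by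
  obtain ⟨f, hf, i, _, hfv, hi, rfl⟩ := exists_split hv C.odd_U (C.H_le_normalizer_U hvH) hx
  have : f = 1 := mem_bot.1 (h ▸ (⟨hf, mem_centralizer_singleton_iff.2 hfv.eq⟩ :
    f ∈ C.U ⊓ centralizer ({v} : Set G)))
  rw [this, one_mul, hi]

theorem invol_P {v : G} (hv : v ∈ (C.P : Subgroup G)) (hI : Inv v) :
    v = C.z ∨ ∃ i : ℤ, v = C.s ^ i * C.t := by
  obtain ⟨i, h | h⟩ := C.exists_cases hv
  swap
  · exact Or.inr ⟨i, h⟩
  refine Or.inl ?_
  have hd : ((2 ^ (C.n - 1) : ℕ) : ℤ) ∣ i + i := by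
    rw [← C.data.ordσ, orderOf_dvd_iff_zpow_eq_one, zpow_add, ← h, hI.1]
  obtain ⟨k, hk⟩ := hd
  rw [CfsgLib.DihPrincipal.two_mul_pow C.data.hn] at hk
  push_cast at hk
  have hi : i = ((2 ^ (C.n - 2) : ℕ) : ℤ) * k := by push_cast; linarith
  rw [hi, zpow_mul, zpow_natCast] at h
  rcases Int.even_or_odd k with ⟨j, rfl⟩ | ⟨j, rfl⟩
  · refine absurd ?_ hI.2
    rw [h, ← two_mul, zpow_mul, zpow_two]
    show (C.z * C.z) ^ j = 1
    rw [C.inv_z.1, one_zpow]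
  · rw [h, zpow_add, zpow_mul, zpow_two, zpow_one]
    show (C.z * C.z) ^ j * C.z = C.z
    rw [C.inv_z.1, one_zpow, one_mul]

theorem exists_conj_z {v : G} (hv : Inv v) : ∃ g : G, g * C.z * g⁻¹ = v := by
  obtain ⟨b, hb⟩ := CfsgLib.DGroup.exists_conj_mem_sylow C.P hv
  have hc : IsConj C.z (b * v * b⁻¹) := by
    rcases C.invol_P hb (hv.conj b) with h | ⟨i, h⟩ <;> rw [h]
    exact zpow_refl_conj C.data C.conj
  exact isConj_iff.1 (hc.trans (isConj_iff.2 ⟨b⁻¹, by group⟩))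

section

variable (h1 : C.D1 = ⊥) (h2 : C.D2 = ⊥)
include h1 h2

theorem t_inverts {x : G} (hx : x ∈ C.U) : C.t * x * C.t = x⁻¹ :=
  C.inverts_of_fix_eq_bot C.inv_t.1 C.t_mem_H h1 hx

theorem U_comm {x y : G} (hx : x ∈ C.U) (hy : y ∈ C.U) : Commute x y := by
  have h := C.t_inverts h1 h2 (mul_mem hx hy)
  rw [invol_mul C.inv_t.1, C.t_inverts h1 h2 hx, C.t_inverts h1 h2 hy, ← mul_inv_rev, inv_inj] at h
  exact h.symm

theorem s_commute {x : G} (hx : x ∈ C.U) : Commute x C.s := by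
  have ht := C.inv_t.1
  have hst := C.inverts_of_fix_eq_bot C.inv_st.1 C.st_mem_H h2 hx
  have h : C.s * x * C.s⁻¹ = x := by
    calc C.s * x * C.s⁻¹ = C.s * C.t * (C.t * x * C.t) * (C.s * C.t) := by
          rw [← C.data.rel, C.inv_t.inv_eq]
          simp only [mul_assoc, ← mul_assoc C.t C.t, ht, one_mul]
      _ = x := by
          rw [C.t_inverts h1 h2 hx, CaseI.invol_inv C.inv_st.1, hst, inv_inv]
  exact (mul_inv_eq_iff_eq_mul.1 h).symm

theorem reflection {x : G} (hx : x ∈ C.U) (i : ℤ) :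
    C.s ^ i * C.t * x * (C.s ^ i * C.t)⁻¹ = x⁻¹ := by
  rw [show C.s ^ i * C.t * x * (C.s ^ i * C.t)⁻¹ = C.s ^ i * (C.t * x * C.t⁻¹) * (C.s ^ i)⁻¹ by group,
    C.inv_t.inv_eq, C.t_inverts h1 h2 hx,
    ((C.s_commute h1 h2 hx).inv_left.zpow_right i).eq.symm, mul_inv_cancel_right]

theorem refl_mul (i j : ℤ) : C.s ^ i * C.t * (C.s ^ j * C.t) = C.s ^ (i - j) := by
  have h : C.t * C.s ^ j * C.t⁻¹ = C.s ^ (-j) := by rw [← conj_zpow, C.data.rel, inv_zpow']
  rw [C.inv_t.inv_eq] at h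
  rw [show C.s ^ i * C.t * (C.s ^ j * C.t) = C.s ^ i * (C.t * C.s ^ j * C.t) by group, h, ← zpow_add,
    sub_eq_add_neg]

theorem base_z : IsBase C.z (C.U ⊔ zpowers C.s) := by
  have hmem : ∀ {x : G}, x ∈ C.U ⊔ zpowers C.s ↔ ∃ u ∈ C.U, ∃ i : ℤ, x = u * C.s ^ i := fun {x} => by
    constructor
    · intro hx
      obtain ⟨p, hp, w, hw, rfl⟩ := (CfsgLib.Solvable.mem_sup_of_le_normalizer
        (zpowers_le.2 (C.H_le_normalizer_U C.s_mem_H))).1 (sup_comm C.U (zpowers C.s) ▸ hx)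
      obtain ⟨i, rfl⟩ := mem_zpowers_iff.1 hp
      exact ⟨w, hw, i, ((C.s_commute h1 h2 hw).zpow_right i).eq.symm⟩
    · rintro ⟨u, hu, i, rfl⟩
      exact mul_mem (mem_sup_left hu) (mem_sup_right (zpow_mem (mem_zpowers _) i))
  have hout : ∀ {x : G}, Commute x C.z → x ∉ C.U ⊔ zpowers C.s →
      ∃ u ∈ C.U, ∃ i : ℤ, x = u * (C.s ^ i * C.t) := fun {x} hx hxA => by
    obtain ⟨u, hu, p, hp, rfl⟩ := C.exists_mul_P (C.mem_H.2 hx)
    obtain ⟨i, rfl | rfl⟩ := C.exists_cases hp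
    · exact absurd (hmem.2 ⟨u, hu, i, rfl⟩) hxA
    · exact ⟨u, hu, i, rfl⟩
  have hprod : ∀ {u w : G}, u ∈ C.U → w ∈ C.U → ∀ i j : ℤ,
      u * (C.s ^ i * C.t) * (w * (C.s ^ j * C.t)) = u * w⁻¹ * C.s ^ (i - j) := fun {u w} _ hw i j => by
    calc u * (C.s ^ i * C.t) * (w * (C.s ^ j * C.t)) =
        u * (C.s ^ i * C.t * w * (C.s ^ i * C.t)⁻¹) * (C.s ^ i * C.t * (C.s ^ j * C.t)) := by group
      _ = _ := by rw [C.reflection h1 h2 hw, C.refl_mul h1 h2]
  refine ⟨fun x hx => ?_, mem_sup_right (pow_mem (mem_zpowers _) _), fun x hx y hy => ?_,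
    fun x hx hsq hx1 => ?_, fun x hx hxA => ?_, fun x y hx hy hxA hyA => ?_⟩
  · obtain ⟨u, hu, i, rfl⟩ := hmem.1 hx
    exact C.mem_H.1 (mul_mem (C.U_le_H hu) (zpow_mem C.s_mem_H i))
  · obtain ⟨u, hu, i, rfl⟩ := hmem.1 hx
    obtain ⟨w, hw, j, rfl⟩ := hmem.1 hy
    exact ((C.U_comm h1 h2 hu hw).mul_right ((C.s_commute h1 h2 hu).zpow_right j)).mul_left
      (((C.s_commute h1 h2 hw).zpow_right i).symm.mul_right
        ((Commute.refl C.s).zpow_zpow i j))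
  · obtain ⟨u, hu, i, rfl⟩ := hmem.1 hx
    have hc := (C.s_commute h1 h2 hu).zpow_right i
    rw [hc.symm.mul_mul_mul_comm] at hsq
    have hpow : (u * u) ^ 2 ^ (C.n - 1) = 1 := by
      rw [eq_inv_of_mul_eq_one_left hsq, ← zpow_add, inv_pow, ← zpow_natCast, ← zpow_mul,
        mul_comm (i + i), zpow_mul, zpow_natCast, ← C.data.ordσ, pow_orderOf_eq_one, one_zpow,
        inv_one]
    have huu : u * u = 1 := orderOf_eq_one_iff.1 (Nat.eq_one_of_dvd_coprimes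
      ((Nat.coprime_two_left.2 (odd_orderOf C.odd_U (mul_mem hu hu))).pow_left (C.n - 1)).symm
      dvd_rfl (orderOf_dvd_of_pow_eq_one hpow))
    obtain rfl : u = 1 := eq_one_of_sq huu (odd_orderOf C.odd_U hu)
    rw [one_mul] at hsq hx1 ⊢
    rw [one_mul] at hsq
    rcases C.invol_P (zpow_mem C.data.σ_mem i) ⟨hsq, hx1⟩ with h | ⟨j, h⟩
    · exact h
    · refine absurd ?_ C.t_not_mem_zpowers
      rw [show C.t = (C.s ^ j)⁻¹ * C.s ^ i by rw [h]; group]
      exact mul_mem (inv_mem (zpow_mem (mem_zpowers _) j)) (zpow_mem (mem_zpowers _) i)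
  · obtain ⟨u, hu, i, rfl⟩ := hout hx hxA
    rw [hprod hu hu, mul_inv_cancel, sub_self, zpow_zero, one_mul]
  · obtain ⟨u, hu, i, rfl⟩ := hout hx hxA
    obtain ⟨w, hw, j, rfl⟩ := hout hy hyA
    rw [hprod hu hw]
    exact hmem.2 ⟨_, mul_mem hu (inv_mem hw), _, rfl⟩

theorem dhyp : DHyp G := fun v hv => by
  obtain ⟨g, rfl⟩ := C.exists_conj_z hv
  exact ⟨_, (C.base_z h1 h2).conj g⟩

theorem normalizer_le_H {Y : Subgroup G} (hY : Y ≤ C.U) (hY1 : Y ≠ ⊥) :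
    normalizer (Y : Set G) ≤ C.H := fun g hg => by
  have hG := C.dhyp h1 h2
  haveI := C.simple
  have hO : Cfsg.oddCore G = ⊥ := by
    rcases (CfsgLib.DGroup.normal_oddCore G).eq_bot_or_eq_top with h | h
    · exact h
    · exact absurd (eq_one_of_sq C.inv_z.1
        (odd_orderOf (CfsgLib.DGroup.odd_oddCore G) (h ▸ mem_top _))) C.inv_z.2
  obtain ⟨y, hy, hy1⟩ := Y.bot_or_exists_ne_one.resolve_left hY1
  refine C.mem_H.2 (mul_inv_eq_iff_eq_mul.1 ?_)
  refine hG.inv_unique (hG.ti hO) C.inv_z (C.inv_z.conj g) (odd_orderOf C.odd_U (hY hy)) hy1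
    (C.mem_H.1 (C.U_le_H (hY hy))) ?_
  have := (Commute.conj_iff g).2 (C.mem_H.1 (C.U_le_H (hY (conj_mem' hg hy))))
  simpa [mul_assoc] using this

/-- Both classes invert `U`: the group is `PSL(2, q)`, `q` odd. -/
theorem psl_of_eq_bot : ∃ (F : Type) (_ : Field F) (_ : Fintype F), Odd (Fintype.card F) ∧
    Nonempty (G ≃* Matrix.ProjectiveSpecialLinearGroup (Fin 2) F) := by
  haveI := C.simple
  have hcs : ∀ i : ℤ, C.s ^ i ∈ centralizer (C.U : Set G) := fun i => mem_centralizer_iff.2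
    fun y hy => ((C.s_commute h1 h2 hy).zpow_right i).eq
  refine Cfsg.Agent.S0508.result C.P (2 ^ (C.n - 1))
    (le_trans (le_of_eq (pow_one 2).symm) (Nat.pow_le_pow_right two_pos (by have := C.data.hn; omega)))
    C.data.iso C.z C.inv_z.orderOf (pow_mem C.data.σ_mem _)
    (fun x hx => C.mem_H.1 (C.P_le_H hx)) C.U rfl (fun hU => ?_) (fun x hx hn y hy => ?_)
    fun Y hY hY1 => C.normalizer_le_H h1 h2 hY hY1
  · have e : (C.P : Subgroup G) ⊓ centralizer (C.U : Set G) = zpowers C.s := by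
      refine le_antisymm (fun x hx => ?_) (zpowers_le.2 ⟨C.data.σ_mem, by simpa using hcs 1⟩)
      obtain ⟨i, rfl | rfl⟩ := C.exists_cases hx.1
      · exact zpow_mem (mem_zpowers _) i
      · obtain ⟨y, hy, hy1⟩ := C.U.bot_or_exists_ne_one.resolve_left hU
        have h := C.reflection h1 h2 hy i
        rw [← mem_centralizer_iff.1 hx.2 y hy, mul_inv_cancel_right] at h
        exact absurd (eq_one_of_inv_eq h.symm (odd_orderOf C.odd_U hy)) hy1
    rw [e]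
    refine ⟨inferInstance, Nat.eq_of_mul_eq_mul_left (n := Nat.card (zpowers C.s)) Nat.card_pos ?_⟩
    rw [← relIndex_bot_left, relIndex_mul_relIndex _ _ _ bot_le (zpowers_le.2 C.data.σ_mem),
      relIndex_bot_left, relIndex_bot_left, Nat.card_zpowers, C.data.ordσ, C.card_P,
      CfsgLib.DihPrincipal.two_mul_pow C.data.hn]
    ring
  · obtain ⟨i, rfl | rfl⟩ := C.exists_cases hx
    · exact absurd (hcs i) hn
    · exact C.reflection h1 h2 hy i

end

/-- Exactly one class inverts `U`: the group is `A₇`. -/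
theorem a7_of_eq_bot (h1 : C.D1 ≠ ⊥) (h2 : C.D2 = ⊥) : Nonempty (G ≃* alternatingGroup (Fin 7)) := by
  haveI := C.simple
  exact a7_end C.data (by rw [C.oddU_eq]; exact h2) (C.fixT_eq.symm ▸ h1) C.conj

/-- One trivial fixed point group decides the group. -/
theorem psl_or_a7 (h : C.D1 = ⊥ ∨ C.D2 = ⊥) :
    (∃ (F : Type) (_ : Field F) (_ : Fintype F), Odd (Fintype.card F) ∧
      Nonempty (G ≃* Matrix.ProjectiveSpecialLinearGroup (Fin 2) F)) ∨
      Nonempty (G ≃* alternatingGroup (Fin 7)) := by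
  by_cases h1 : C.D1 = ⊥ <;> by_cases h2 : C.D2 = ⊥
  · exact Or.inl (C.psl_of_eq_bot h1 h2)
  · refine Or.inr (C.flip.a7_of_eq_bot h2 ((eq_bot_iff_forall _).2 fun x hx => ?_))
    obtain ⟨hxU, hxc⟩ := C.flip.mem_D2.1 hx
    have hn := C.H_le_normalizer_U (inv_mem C.s_mem_H)
    have h3 : Commute (C.s⁻¹ * x * C.s) C.t := by
      have := (Commute.conj_iff C.s⁻¹).2 (show Commute x (C.s * (C.s * C.t)) from hxc)
      have e : C.s⁻¹ * (C.s * (C.s * C.t)) * C.s⁻¹⁻¹ = C.t := by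
        rw [inv_inv, inv_mul_cancel_left, mul_assoc, show C.t * C.s = C.t * C.s * C.t⁻¹ * C.t by group,
          C.data.rel, mul_inv_cancel_left]
      rwa [e, inv_inv] at this
    have h4 : C.s⁻¹ * x * C.s⁻¹⁻¹ = 1 :=
      mem_bot.1 (h1 ▸ C.mem_D1.2 ⟨conj_mem hn hxU, by rwa [inv_inv]⟩)
    exact conj_eq_one_iff.1 h4
  · exact Or.inr (C.a7_of_eq_bot h1 h2)
  · exact absurd h (by tauto)

end CfsgLib.GW.Eight.Ctx
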