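import Cfsg.Agent.GW.CaseI.Fusion
import Cfsg.Agent.DGroup.TopDihedral
import Cfsg.Agent.DGroup.Hyp
import Cfsg.Agent.DGroup.NoMember
import Cfsg.Agent.S0508
import Mathlib.GroupTheory.SpecificGroups.KleinFour

/-!
# The end: `b` inverts `U`

Then every centraliser of an involution is generalised dihedral, so the centralisers of the
involutions meet trivially in odd order and the hypotheses of the theorem of Brauer, Suzuki and Wall
hold.
-/

set_option autoImplicit false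
set_option linter.style.haveILetI false
set_option linter.unusedSectionVars false

namespace CfsgLib.GW.CaseI.Ctx

open Subgroup
open CfsgLib.NormCyclic (Inv)
open CfsgLib.DGroup (IsBase DHyp conj_mem conj_mem' odd_orderOf eq_one_of_sq eq_one_of_inv_eq)

universe u

variable {G : Type u} [Group G] [Finite G] (C : Ctx G)
include C

section

variable (hD : C.D = ⊥)
include hD

theorem b_inverts {x : G} (hx : x ∈ C.U) : C.b * x * C.b = x⁻¹ := by
  obtain ⟨f, hf, i, _, hfb, hi, rfl⟩ :=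
    exists_split C.hb.1 C.odd_U (C.H_le_normalizer_U C.b_mem_H) hx
  have : f = 1 := mem_bot.1 (hD ▸ C.mem_D.2 ⟨hf, hfb⟩)
  rw [this, one_mul, hi]

theorem U_comm {x y : G} (hx : x ∈ C.U) (hy : y ∈ C.U) : Commute x y := by
  have h := C.b_inverts hD (mul_mem hx hy)
  rw [invol_mul C.hb.1, C.b_inverts hD hx, C.b_inverts hD hy, ← mul_inv_rev, inv_inj] at h
  exact h.symm

theorem out_inverts {v : G} (hv : v = C.b ∨ v = C.c) {x : G} (hx : x ∈ C.U) : v * x * v = x⁻¹ := by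
  have h : C.b * x * C.b = x⁻¹ := C.b_inverts hD hx
  rcases hv with rfl | rfl
  · exact h
  · rw [Ctx.c]
    nth_rw 2 [C.hab.eq]
    rw [show C.a * C.b * x * (C.b * C.a) = C.a * (C.b * x * C.b) * C.a by group, h,
      conj_eq_of_commute C.ha.1 (C.mem_H.1 (C.U_le_H hx)).inv_left]

theorem base_a : IsBase C.a (C.U ⊔ zpowers C.a) := by
  have hpow : ∀ {z : G}, z ∈ zpowers C.a → z = 1 ∨ z = C.a := fun {z} hz => by
    obtain ⟨i, rfl⟩ := mem_zpowers_iff.1 hz
    rcases Int.even_or_odd i with ⟨j, rfl⟩ | ⟨j, rfl⟩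
    · left; rw [← two_mul, zpow_mul, zpow_two, C.ha.1, one_zpow]
    · right; rw [zpow_add, zpow_mul, zpow_two, C.ha.1, one_zpow, one_mul, zpow_one]
  have hmem : ∀ {x : G}, x ∈ C.U ⊔ zpowers C.a ↔ ∃ u ∈ C.U, x = u ∨ x = u * C.a := fun {x} => by
    constructor
    · intro hx
      obtain ⟨u, hu, z, hz, rfl⟩ := (CfsgLib.Solvable.mem_sup_of_le_normalizer
        (zpowers_le.2 (C.H_le_normalizer_U C.a_mem_H))).1 (sup_comm C.U (zpowers C.a) ▸ hx)
      rcases hpow hu with rfl | rfl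
      · exact ⟨z, hz, Or.inl (one_mul z)⟩
      · exact ⟨z, hz, Or.inr (C.mem_H.1 (C.U_le_H hz)).symm.eq⟩
    · rintro ⟨u, hu, rfl | rfl⟩
      exacts [mem_sup_left hu, mul_mem (mem_sup_left hu) (mem_sup_right (mem_zpowers _))]
  have hUa : ∀ {u : G}, u ∈ C.U → Commute u C.a := fun hu => C.mem_H.1 (C.U_le_H hu)
  -- outside: `u v` with `v = b` or `c`
  have hout : ∀ {x : G}, Commute x C.a → x ∉ C.U ⊔ zpowers C.a →
      ∃ u ∈ C.U, ∃ v, (v = C.b ∨ v = C.c) ∧ x = u * v := by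
    intro x hx hxA
    obtain ⟨u, hu, v, hv, rfl⟩ := C.exists_mul_V (C.mem_H.2 hx)
    rcases C.mem_V.1 hv with rfl | rfl | h | h
    · exact absurd (by rw [mul_one]; exact mem_sup_left hu) hxA
    · exact absurd (mul_mem (mem_sup_left hu) (mem_sup_right (mem_zpowers _))) hxA
    · exact ⟨u, hu, v, Or.inl h, rfl⟩
    · exact ⟨u, hu, v, Or.inr h, rfl⟩
  have hV : ∀ {v : G}, v = C.b ∨ v = C.c → v ∈ C.V ∧ v * v = 1 := by
    rintro v (rfl | rfl)
    exacts [⟨C.b_mem_V, C.hb.1⟩, ⟨C.c_mem_V, C.hc.1⟩]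
  refine ⟨fun x hx => ?_, mem_sup_right (mem_zpowers _), fun x hx y hy => ?_, fun x hx hsq h1 => ?_,
    fun x hx hxA => ?_, fun x y hx hy hxA hyA => ?_⟩
  · obtain ⟨u, hu, rfl | rfl⟩ := hmem.1 hx
    exacts [hUa hu, (hUa hu).mul_left (Commute.refl _)]
  · obtain ⟨u, hu, e⟩ := hmem.1 hx
    obtain ⟨w, hw, e'⟩ := hmem.1 hy
    have h := C.U_comm hD hu hw
    rcases e with rfl | rfl <;> rcases e' with rfl | rfl
    exacts [h, h.mul_right (hUa hu), h.mul_left (hUa hw).symm,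
      (h.mul_right (hUa hu)).mul_left ((hUa hw).symm.mul_right (Commute.refl _))]
  · obtain ⟨u, hu, e⟩ := hmem.1 hx
    rcases e with rfl | rfl
    · exact absurd (eq_one_of_sq hsq (odd_orderOf C.odd_U hu)) h1
    · rw [(hUa hu).symm.mul_mul_mul_comm, C.ha.1, mul_one] at hsq
      rw [eq_one_of_sq hsq (odd_orderOf C.odd_U hu), one_mul]
  · obtain ⟨u, hu, v, hv, rfl⟩ := hout hx hxA
    rw [show u * v * (u * v) = u * (v * u * v) by group, C.out_inverts hD hv hu, mul_inv_cancel]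
  · obtain ⟨u, hu, v, hv, rfl⟩ := hout hx hxA
    obtain ⟨w, hw, v', hv', rfl⟩ := hout hy hyA
    obtain ⟨hvV, hvv⟩ := hV hv
    rw [show u * v * (w * v') = u * (v * w * v) * (v⁻¹ * v') by group, C.out_inverts hD hv hw,
      inv_eq_of_mul_eq_one_right hvv]
    refine mul_mem (mem_sup_left (mul_mem hu (inv_mem hw))) (mem_sup_right ?_)
    have h2 : C.b * C.c = C.a := by
      rw [Ctx.c, ← mul_assoc, C.hab.eq.symm, mul_assoc, C.hb.1, mul_one]
    rcases hv with rfl | rfl <;> rcases hv' with rfl | rfl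
    · rw [C.hb.1]; exact one_mem _
    · rw [h2]; exact mem_zpowers _
    · rw [(C.commute_of_mem_V C.c_mem_V C.b_mem_V).eq, h2]; exact mem_zpowers _
    · rw [C.hc.1]; exact one_mem _

theorem dhyp : DHyp G := fun v hv => by
  obtain ⟨g, rfl⟩ := C.exists_conj_a hv
  exact ⟨_, (C.base_a hD).conj g⟩

theorem normalizer_le_H {Y : Subgroup G} (hY : Y ≤ C.U) (hY1 : Y ≠ ⊥) :
    normalizer (Y : Set G) ≤ C.H := fun g hg => by
  have hG := C.dhyp hD
  haveI := C.simple
  have hO : Cfsg.oddCore G = ⊥ := by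
    rcases (CfsgLib.DGroup.normal_oddCore G).eq_bot_or_eq_top with h | h
    · exact h
    · exfalso
      exact C.ha.2 (eq_one_of_sq C.ha.1 (odd_orderOf (CfsgLib.DGroup.odd_oddCore G) (h ▸ mem_top _)))
  obtain ⟨y, hy, hy1⟩ := Y.bot_or_exists_ne_one.resolve_left hY1
  refine C.mem_H.2 (mul_inv_eq_iff_eq_mul.1 ?_)
  refine hG.inv_unique (hG.ti hO) C.ha (C.ha.conj g) (odd_orderOf C.odd_U (hY hy)) hy1
    (C.mem_H.1 (C.U_le_H (hY hy))) ?_
  have := (Commute.conj_iff g).2 (C.mem_H.1 (C.U_le_H (hY (conj_mem' hg hy))))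
  simpa [mul_assoc] using this

/-- `b` inverts `U`: the group is `PSL(2, q)`, `q` odd. -/
theorem psl_of_D_eq_bot : ∃ (F : Type) (_ : Field F) (_ : Fintype F), Odd (Fintype.card F) ∧
    Nonempty (G ≃* Matrix.ProjectiveSpecialLinearGroup (Fin 2) F) := by
  haveI := C.simple
  haveI : Fact (Nat.Prime 2) := ⟨Nat.prime_two⟩
  obtain ⟨S, hS⟩ := C.exists_sylow_V
  haveI : Nontrivial C.V := Finite.one_lt_card_iff_nontrivial.1 (by rw [C.card_V]; norm_num)
  have h4 : IsKleinFour C.V := {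
    card_four := C.card_V
    exponent_two := (Monoid.exponent_eq_prime_iff Nat.prime_two).2 fun g hg => orderOf_eq_prime
      (Subtype.ext (by simpa [pow_two] using C.sq_of_mem_V g.2)) hg }
  haveI : IsKleinFour (S : Subgroup G) := hS.symm ▸ h4
  have hinv : ∀ s ∈ C.V, s ∉ centralizer (C.U : Set G) → ∀ y ∈ C.U, s * y * s = y⁻¹ := by
    intro s hs hn y hy
    rcases C.mem_V.1 hs with rfl | rfl | h | h
    · exact absurd (one_mem _) hn
    · exact absurd (mem_centralizer_iff.2 fun z hz => (C.mem_H.1 (C.U_le_H hz)).eq) hn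
    · exact C.out_inverts hD (Or.inl h) hy
    · exact C.out_inverts hD (Or.inr h) hy
  have hS' : ∀ x, x ∈ (S : Subgroup G) ↔ x ∈ C.V := fun x => by rw [hS]
  refine Cfsg.Agent.S0508.result S 2 le_rfl IsKleinFour.nonempty_mulEquiv C.a C.orderOf_a
    ((hS' _).2 C.a_mem_V) (fun s hs => C.commute_of_mem_V ((hS' s).1 hs) C.a_mem_V) C.U rfl
    (fun hU => ?_) (fun s hs hn y hy => ?_) fun Y hY hY1 => C.normalizer_le_H hD hY hY1
  · obtain ⟨y, hy, hy1⟩ := C.U.bot_or_exists_ne_one.resolve_left hU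
    have hne : ∀ {v : G}, v = C.b ∨ v = C.c → v ∉ centralizer (C.U : Set G) := fun {v} hv h => by
      have h1 := C.out_inverts hD hv hy
      have hvv : v * v = 1 := by rcases hv with rfl | rfl; exacts [C.hb.1, C.hc.1]
      rw [mul_assoc, mem_centralizer_iff.1 h y hy, ← mul_assoc, hvv, one_mul] at h1
      exact hy1 (eq_one_of_inv_eq h1.symm (odd_orderOf C.odd_U hy))
    have e : (S : Subgroup G) ⊓ centralizer (C.U : Set G) = zpowers C.a := by
      refine le_antisymm (fun x hx => ?_) (zpowers_le.2 ⟨(hS' _).2 C.a_mem_V,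
        mem_centralizer_iff.2 fun z hz => (C.mem_H.1 (C.U_le_H hz)).eq⟩)
      rcases C.mem_V.1 ((hS' x).1 hx.1) with rfl | rfl | h | h
      exacts [one_mem _, mem_zpowers _, absurd hx.2 (hne (Or.inl h)), absurd hx.2 (hne (Or.inr h))]
    rw [e]
    refine ⟨inferInstance, Nat.eq_of_mul_eq_mul_left two_pos ?_⟩
    have := Subgroup.relIndex_mul_relIndex (⊥ : Subgroup G) (zpowers C.a) (S : Subgroup G) bot_le
      (zpowers_le.2 ((hS' _).2 C.a_mem_V))
    rwa [relIndex_bot_left, relIndex_bot_left, Nat.card_zpowers, C.orderOf_a, hS, C.card_V,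
      ← hS] at this
  · rw [show s⁻¹ = s from inv_eq_of_mul_eq_one_right (C.sq_of_mem_V ((hS' s).1 hs))]
    exact hinv s ((hS' s).1 hs) hn y hy

end

end CfsgLib.GW.CaseI.Ctx
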