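import Cfsg.Agent.GW.CaseI.OrderInst
import Cfsg.Agent.GW.CaseII.Finish
import Cfsg.Agent.GW.Linear.Main
import Cfsg.Agent.GW.Top.EndFour

/-!
# Gorenstein–Walter with a four group as Sylow 2-subgroup, minimal simple case
-/

set_option autoImplicit false

namespace CfsgLib.GW.CaseI

universe u

variable {G : Type u} [Group G] [Finite G] (C : Ctx G)
include C

theorem Ctx.D_bot : C.D = ⊥ := by
  obtain ⟨O⟩ := C.exists_order
  haveI := Fintype.ofFinite G
  by_contra hD
  exact hD (C.D_eq_bot O (C.isCoatom_H O hD))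

/-- A group in the setting is `PSL(2, q)` with `q` odd. -/
theorem Ctx.psl : ∃ (F : Type) (_ : Field F) (_ : Fintype F), Odd (Fintype.card F) ∧
    Nonempty (G ≃* Matrix.ProjectiveSpecialLinearGroup (Fin 2) F) :=
  C.psl_of_D_eq_bot C.D_bot

end CfsgLib.GW.CaseI
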