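import Cfsg.Agent.GW.Top.Shape
import Cfsg.Agent.GW.Top.Four
import Cfsg.Agent.GW.Top.EndEight
import Cfsg.Agent.Invol.DihedralFusion
import Cfsg.Agent.BlocksB.DihedralPrincipal.Setup
import Cfsg.Agent.Char.Burnside

/-!
# Gorenstein–Walter: a minimal counterexample gives one of the two settings
-/

set_option autoImplicit false
set_option linter.style.haveILetI false
set_option linter.unusedSectionVars false

namespace CfsgLib.GW.Top

open Subgroup CfsgLib
open CfsgLib.NormCyclic (Inv)

universe u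

variable {X : Type u} [Group X] [Finite X]

/-- A perfect solvable group is trivial. -/
theorem subsingleton_of_perfect (X : Type*) [Group X] [Group.IsPerfect X] [Group.IsSolvable X] :
    Subsingleton X := by
  by_contra h
  haveI : Nontrivial X := not_subsingleton_iff_nontrivial.1 h
  exact (Group.IsSolvable.commutator_lt_top_of_nontrivial X).ne Group.IsPerfect.commutator_eq_top

/-- In a perfect group with a dihedral Sylow 2-subgroup all involutions are conjugate. -/
theorem all_conj [Group.IsPerfect X] (S : Sylow 2 X) (D : DihFour.Data (S : Subgroup X)) {a b : X}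
    (ha : orderOf a = 2) (hb : orderOf b = 2) : IsConj a b := by
  have hodd : Odd (S : Subgroup X).index := Nat.not_even_iff_odd.1 fun he => S.not_dvd_index he.two_dvd
  have hno : ∀ H : Subgroup X, H.index ≠ 2 := fun H h2 => by
    haveI := normal_of_index_eq_two h2
    haveI : Group.IsPerfect (X ⧸ H) := Group.IsPerfect.ofSurjective (QuotientGroup.mk'_surjective H)
    haveI : IsCyclic (X ⧸ H) := isCyclic_of_prime_card (hp := ⟨Nat.prime_two⟩) (by rw [← index_eq_card, h2])
    letI := IsCyclic.commGroup (α := X ⧸ H)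
    haveI := subsingleton_of_perfect (X ⧸ H)
    rw [index_eq_card, Nat.card_of_subsingleton (1 : X ⧸ H)] at h2
    omega
  have hsyl : ∀ v : X, orderOf v = 2 → ∃ g : X, g * v * g⁻¹ ∈ (S : Subgroup X) := fun v hv =>
    DGroup.exists_conj_mem_sylow S ⟨Invol.mul_self_eq_one hv, Invol.ne_one hv⟩
  exact (D.all_conj_of_no_index_two hodd hsyl hno ha).trans
    (D.all_conj_of_no_index_two hodd hsyl hno hb).symm

/-- A perfect group without odd core and with a dihedral Sylow 2-subgroup is simple. -/
theorem isSimpleGroup_of_perfect [Group.IsPerfect X] (hO : Cfsg.oddCore X = ⊥) (S : Sylow 2 X)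
    (D : DihFour.Data (S : Subgroup X)) : IsSimpleGroup X := by
  haveI : Nontrivial X := ⟨⟨D.z, 1, D.z_ne⟩⟩
  refine IsSimpleGroup.mk fun N hN => ?_
  by_cases hodd : Odd (Nat.card N)
  · exact Or.inl (le_bot_iff.1 (hO ▸ DGroup.le_oddCore hN hodd))
  refine Or.inr ?_
  haveI : Fact (Nat.Prime 2) := ⟨Nat.prime_two⟩
  obtain ⟨⟨v, hvN⟩, hvo⟩ := exists_prime_orderOf_dvd_card' (G := N) 2
    (even_iff_two_dvd.1 (Nat.not_odd_iff_even.1 hodd))
  rw [Subgroup.orderOf_mk] at hvo
  have hall : ∀ w : X, orderOf w = 2 → w ∈ N := fun w hw => by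
    obtain ⟨c, rfl⟩ := isConj_iff.1 (all_conj S D hvo hw)
    exact hN.conj_mem _ hvN c
  have hs : D.s ∈ N := hall _ D.hs
  have hr : D.r ∈ N := by
    have := hall _ (D.refl_orderOf 1)
    rwa [zpow_one, mul_mem_cancel_right hs] at this
  have hle : (S : Subgroup X) ≤ N := fun g hg => by
    obtain ⟨i, rfl | rfl⟩ := D.cases g hg
    · exact zpow_mem hr i
    · exact mul_mem (zpow_mem hr i) hs
  haveI : Group.IsPerfect (X ⧸ N) := Group.IsPerfect.ofSurjective (QuotientGroup.mk'_surjective N)
  haveI : Group.IsSolvable (X ⧸ N) := by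
    haveI : Group.IsSolvable (⊤ : Subgroup (X ⧸ N)) := DGroup.solvable_of_odd _ (by
      rw [card_top, ← index_eq_card]
      exact (Nat.not_even_iff_odd.1 fun he => S.not_dvd_index he.two_dvd).of_dvd_nat (index_dvd_of_le hle))
    exact Group.isSolvable_of_surjective (f := (⊤ : Subgroup (X ⧸ N)).subtype) fun q => ⟨⟨q, mem_top q⟩, rfl⟩
  haveI := subsingleton_of_perfect (X ⧸ N)
  refine index_eq_one.1 ?_
  rw [index_eq_card, Nat.card_of_subsingleton (1 : X ⧸ N)]

theorem not_isMulCommutative [Group.IsPerfect X] [Nontrivial X] : ¬ IsMulCommutative X := fun h => by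
  haveI : Group.IsSolvable X := Group.isSolvable_of_comm fun a b => h.is_comm.comm a b
  exact not_subsingleton X (subsingleton_of_perfect X)

/-- The setting with a four group as Sylow 2-subgroup. -/
theorem nonempty_ctx_four [Group.IsPerfect X] (hlt : Below.{u} (Nat.card X)) (hs : IsSimpleGroup X)
    (S : Sylow 2 X) (D : DihFour.Data (S : Subgroup X)) (h4 : Nat.card (S : Subgroup X) = 4)
    {m : ℕ} (e : (S : Subgroup X) ≃* DihedralGroup m) : Nonempty (CaseI.Ctx X) := by
  haveI : Fact (Nat.Prime 2) := ⟨Nat.prime_two⟩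
  haveI := hs
  have h4' : ∀ T : Sylow 2 X, Nat.card ↥(T : Subgroup X) = 4 := fun T => by
    rw [Nat.card_congr (T.equiv S).toEquiv, h4]
  haveI : IsMulCommutative (S : Subgroup X) := by
    letI := IsPGroup.commGroupOfCardEqPrimeSq (p := 2) (G := (S : Subgroup X)) (by rw [h4]; norm_num)
    exact ⟨⟨fun a b => mul_comm a b⟩⟩
  set a := D.z
  set b := D.s
  have ha : Inv a := ⟨D.z_sq, D.z_ne⟩
  have hb : Inv b := ⟨D.s_sq, fun h => D.refl_ne_one 0 (by rw [zpow_zero, one_mul]; exact h)⟩
  have hab : Commute a b := D.z_comm D.sS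
  obtain ⟨g, hg⟩ := isConj_iff.1 (all_conj S D D.z_orderOf D.hs)
  obtain ⟨n, hn, hn'⟩ := S.conj_eq_normalizer_conj_of_mem a g⁻¹ D.z_mem
    (by rw [inv_inv, hg]; exact D.sS)
  rw [inv_inv, hg] at hn'
  set r := n⁻¹ with hr
  have hra : r * a * r⁻¹ = b := by rw [hr, inv_inv]; exact hn'.symm
  have hrN : r ∈ normalizer ((S : Subgroup X) : Set X) := inv_mem hn
  refine ⟨⟨a, b, r, ha, hb, hab, D.s_ne_z.symm, h4', hra, ?_, hs, not_isMulCommutative,
    fun M hM haM hbM hf => shape_four hlt hM h4' S e ha hb hab D.s_ne_z.symm haM hbM hf⟩⟩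
  -- the image of `b` is the third involution, as the normaliser acts with odd order
  have hmem : r * b * r⁻¹ ∈ (S : Subgroup X) := (mem_normalizer_iff.1 hrN b).1 D.sS
  obtain ⟨i, hi⟩ : ∃ i : ℤ, r * b * r⁻¹ = D.r ^ i * D.s := by
    refine (D.invol_cases hmem ?_ ?_).resolve_left fun h => ?_
    · calc r * b * r⁻¹ * (r * b * r⁻¹) = r * (b * b) * r⁻¹ := by group
        _ = 1 := by rw [hb.1, mul_one, mul_inv_cancel]
    · exact fun h => hb.2 (conj_eq_one_iff.1 h)
    · have hfix : r * r ∈ centralizer ((S : Subgroup X) : Set X) := mem_centralizer_iff.2 fun x hx => by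
        have key : ∀ y : X, (r * r) * y * (r * r)⁻¹ = y → y * (r * r) = r * r * y := fun y hy =>
          (mul_inv_eq_iff_eq_mul.1 hy).symm
        refine key x ?_
        have h1 : (r * r) * a * (r * r)⁻¹ = a := by
          rw [show r * r * a * (r * r)⁻¹ = r * (r * a * r⁻¹) * r⁻¹ by group, hra, h]
        have h2 : (r * r) * b * (r * r)⁻¹ = b := by
          rw [show r * r * b * (r * r)⁻¹ = r * (r * b * r⁻¹) * r⁻¹ by group, h, hra]
        obtain ⟨j, hj⟩ := D.cases x hx
        have hh1 : D.h = 1 := by have := D.card_eq; omega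
        have hrz : D.r = a := by show D.r = D.r ^ (D.h : ℤ); rw [hh1, Nat.cast_one, zpow_one]
        rcases hj with rfl | rfl
        · rw [hrz, ← conj_zpow, h1]
        · rw [hrz, show r * r * (a ^ j * D.s) * (r * r)⁻¹ =
            (r * r * a ^ j * (r * r)⁻¹) * (r * r * D.s * (r * r)⁻¹) by group, ← conj_zpow, h1, h2]
      have hodd : Odd ((centralizer ((S : Subgroup X) : Set X)).subgroupOf
          (normalizer ((S : Subgroup X) : Set X))).index := by
        refine (Nat.not_even_iff_odd.1 fun he => S.not_dvd_index he.two_dvd).of_dvd_nat ?_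
        exact (relIndex_dvd_of_le_left _ S.le_centralizer).trans (relIndex_dvd_index_of_le le_normalizer)
      set C := (centralizer ((S : Subgroup X) : Set X)).subgroupOf (normalizer ((S : Subgroup X) : Set X))
      haveI : C.Normal := inferInstance
      have hq : (QuotientGroup.mk ⟨r, hrN⟩ : _ ⧸ C) = 1 := by
        refine orderOf_eq_one_iff.1 (Nat.eq_one_of_dvd_coprimes (Nat.coprime_two_left.2 hodd) ?_
          (by rw [index_eq_card]; exact orderOf_dvd_natCard _))
        refine orderOf_dvd_of_pow_eq_one ?_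
        rw [sq, ← QuotientGroup.mk_mul, QuotientGroup.eq_one_iff]
        exact hfix
      have hrc : r ∈ centralizer ((S : Subgroup X) : Set X) :=
        (QuotientGroup.eq_one_iff (N := C) (⟨r, hrN⟩ : normalizer ((S : Subgroup X) : Set X))).1 hq
      rw [mul_inv_eq_iff_eq_mul.2 (mem_centralizer_iff.1 hrc b D.sS).symm] at h
      exact D.s_ne_z h
  have hh1 : D.h = 1 := by have := D.card_eq; omega
  have hrz : D.r = a := by show D.r = D.r ^ (D.h : ℤ); rw [hh1, Nat.cast_one, zpow_one]
  have hza : a ^ i = 1 ∨ a ^ i = a := by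
    rcases Int.even_or_odd i with ⟨j, rfl⟩ | ⟨j, rfl⟩
    · exact Or.inl (by rw [← two_mul, zpow_mul, zpow_two, ha.1, one_zpow])
    · exact Or.inr (by rw [zpow_add, zpow_mul, zpow_two, ha.1, one_zpow, one_mul, zpow_one])
  rw [hrz] at hi
  rcases hza with h | h <;> rw [h] at hi
  · rw [one_mul] at hi
    have h1 : r * a * r⁻¹ = r * b * r⁻¹ := hra.trans hi.symm
    exact absurd (mul_right_cancel (mul_left_cancel (by rw [mul_assoc, mul_assoc] at h1; exact h1)))
      D.s_ne_z.symm
  · exact hi

/-- The setting with Sylow 2-subgroups of order at least eight. -/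
theorem nonempty_ctx_eight [Fintype X] [Fact (Nat.Prime 2)] [Group.IsPerfect X]
    (hlt : Below.{u} (Nat.card X)) (hs : IsSimpleGroup X) (S : Sylow 2 X)
    (D : DihFour.Data (S : Subgroup X)) (h8 : Nat.card (S : Subgroup X) ≠ 4)
    {m : ℕ} (e : (S : Subgroup X) ≃* DihedralGroup m) : Nonempty (Eight.Ctx X) := by
  haveI := hs
  have hk : 1 ≤ D.k := by
    by_contra h
    exact h8 (by rw [D.card_eq, D.hh, show D.k = 0 by omega, pow_zero, mul_one])
  have hcard : Nat.card (S : Subgroup X) = 2 ^ (D.k + 2) := by rw [D.card_eq, D.hh, pow_add]; ring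
  have hm : m = 2 ^ (D.k + 1) := by
    have h := Nat.card_congr e.toEquiv
    rw [hcard, DihedralGroup.nat_card, pow_succ'] at h
    omega
  have hro : orderOf D.r = 2 ^ (D.k + 2 - 1) := by rw [D.hr, D.hh, Nat.add_succ_sub_one, pow_succ']
  obtain ⟨t, hd⟩ := DihPrincipal.exists_data (n := D.k + 2) (by omega)
    ⟨e.trans (MulEquiv.cast (M := fun i => DihedralGroup i) (show m = 2 ^ (D.k + 2 - 1) by
      rw [hm, Nat.add_succ_sub_one]))⟩ D.rS hro
  have hz : orderOf (D.r ^ 2 ^ (D.k + 2 - 2)) = 2 := hd.orderOf_z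
  have hst : orderOf (D.r * t) = 2 := by
    refine Invol.orderOf_eq_two (CfsgLib.GW.sigma_mul_tau_sq hd) fun h => ?_
    have := hd.ordτ
    rw [eq_inv_of_mul_eq_one_right h, orderOf_inv, hro, Nat.add_succ_sub_one] at this
    have h4 : 2 ^ 2 ≤ 2 ^ (D.k + 1) := Nat.pow_le_pow_right two_pos (by omega)
    omega
  exact ⟨{ P := S, s := D.r, t := t, n := D.k + 2, data := hd
           conj := ⟨all_conj S D hz hd.ordτ, all_conj S D hz hst⟩
           simple := hs, na := not_isMulCommutative
           IH := fun M hM v hv hcv hne hf =>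
             shape_eight hlt hM S e ⟨hd.z_sq, hd.z_ne_one⟩ hv hcv hne hf }⟩

/-- The Gorenstein–Walter theorem from the vanishing of a fixed-point group of the reflections. -/
theorem statement_of
    (hD : ∀ (X : Type u) [Group X] [Fintype X] [Fact (Nat.Prime 2)] (C : Eight.Ctx X),
      C.D1 = ⊥ ∨ C.D2 = ⊥) :
    GWApps.Statement.{u} := by
  intro X _ _ _ S n hn hS
  induction hN : Nat.card X using Nat.strong_induction_on generalizing X n with
  | _ N ih =>
  subst hN
  have hlt : Below.{u} (Nat.card X) := fun Y _ _ _ hY S' n' hn' hS' => ih _ hY Y S' n' hn' hS' rfl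
  haveI : Fact (Nat.Prime 2) := ⟨Nat.prime_two⟩
  obtain ⟨e⟩ := hS
  set O := Cfsg.oddCore X with hOdef
  haveI : O.Normal := DGroup.normal_oddCore _
  by_cases hO : O = ⊥
  · obtain ⟨D⟩ := DihFour.exists_data S.2 hn e
    have hs := isSimpleGroup_of_perfect hO S D
    haveI := hs
    let q0 : X ⧸ O ≃* X := (QuotientGroup.quotientMulEquivOfEq hO).trans QuotientGroup.quotientBot
    have key : (∃ (F : Type) (_ : Field F) (_ : Fintype F), Odd (Fintype.card F) ∧
        Nonempty (X ≃* Matrix.ProjectiveSpecialLinearGroup (Fin 2) F)) ∨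
        Nonempty (X ≃* alternatingGroup (Fin 7)) := by
      by_cases h4 : Nat.card (S : Subgroup X) = 4
      · obtain ⟨C⟩ := nonempty_ctx_four hlt hs S D h4 e
        exact Or.inl C.psl
      · haveI := Fintype.ofFinite X
        obtain ⟨C⟩ := nonempty_ctx_eight hlt hs S D h4 e
        exact C.psl_or_a7 (hD X C)
    rcases key with ⟨F, iF, iFt, hodd, ⟨q⟩⟩ | h7
    · refine Or.inl ⟨F, iF, iFt, hodd, ?_, ⟨q0.trans q⟩⟩
      by_contra h3
      have hq : Fintype.card F = 3 := by
        have := Fintype.one_lt_card (α := F)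
        obtain ⟨j, hj⟩ := hodd
        omega
      obtain ⟨e3⟩ := CfsgLib.Linear.Small.nonempty_psl_two_three (F := F) hq
      haveI := (q.trans e3).symm.isSimpleGroup
      haveI : Group.IsSolvable (alternatingGroup (Fin 4)) :=
        Char.isSolvable_of_card_eq 2 3 2 1 Nat.prime_two Nat.prime_three (by
          rw [Nat.card_eq_fintype_card, card_alternatingGroup, Fintype.card_fin]; rfl)
      haveI : Group.IsSolvable X := Group.isSolvable_of_surjective (f := (q.trans e3).symm.toMonoidHom)
        (q.trans e3).symm.surjective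
      exact not_subsingleton X (subsingleton_of_perfect X)
    · obtain ⟨q⟩ := h7
      exact Or.inr ⟨q0.trans q⟩
  · haveI : Group.IsPerfect (X ⧸ O) := Group.IsPerfect.ofSurjective (QuotientGroup.mk'_surjective O)
    let SQ : Sylow 2 (X ⧸ O) := S.mapSurjective (QuotientGroup.mk'_surjective O)
    have hinj : Function.Injective ((QuotientGroup.mk' O).subgroupMap (S : Subgroup X)) := by
      refine (injective_iff_map_eq_one _).2 fun x hx => Subtype.ext ?_
      have hxO : (x : X) ∈ O := (QuotientGroup.eq_one_iff _).1 (congrArg Subtype.val hx)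
      obtain ⟨k, hk⟩ := S.2 x
      exact orderOf_eq_one_iff.1 (Nat.eq_one_of_dvd_coprimes
        ((Nat.coprime_two_left.2 (DGroup.odd_oddCore X)).pow_left k)
        (orderOf_dvd_of_pow_eq_one (congrArg Subtype.val hk)) (Subgroup.orderOf_dvd_natCard _ hxO))
    let eQ : (SQ : Subgroup (X ⧸ O)) ≃* (S : Subgroup X) :=
      (MulEquiv.ofBijective _ ⟨hinj, (QuotientGroup.mk' O).subgroupMap_surjective _⟩).symm
    have hcard : Nat.card (X ⧸ O) < Nat.card X := by
      rw [← index_eq_card, ← O.index_mul_card]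
      exact lt_mul_of_one_lt_right O.index_ne_zero_of_finite.bot_lt (one_lt_card_iff_ne_bot O |>.2 hO)
    have hOQ : Cfsg.oddCore (X ⧸ O) = ⊥ := LocalB.oddCore_quotient
    let q0 : X ⧸ O ≃* (X ⧸ O) ⧸ Cfsg.oddCore (X ⧸ O) :=
      ((QuotientGroup.quotientMulEquivOfEq hOQ).trans QuotientGroup.quotientBot).symm
    rcases hlt (X ⧸ O) hcard SQ n hn ⟨eQ.trans e⟩ with ⟨F, iF, iFt, hodd, h3, ⟨q⟩⟩ | h7
    · exact Or.inl ⟨F, iF, iFt, hodd, h3, ⟨q0.trans q⟩⟩
    · obtain ⟨q⟩ := h7
      exact Or.inr ⟨q0.trans q⟩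

end CfsgLib.GW.Top
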