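import Cfsg.Agent.GW.Eight.Main
import Cfsg.Agent.GW.Eight.TorusSupply
import Cfsg.Agent.GW.Eight.Linear.Main
import Cfsg.Agent.GW.Top.Descend

/-!
# The theorem of Gorenstein and Walter
-/

set_option autoImplicit false
set_option linter.style.haveILetI false

namespace CfsgLib.GW.Top

open CfsgLib.GW.Eight

universe u

/-- **Gorenstein–Walter**, in the form used by the applications. -/
theorem statement : CfsgLib.GWApps.Statement.{u} :=
  statement_of fun _ _ _ _ C => C.result_of torusSupply no_linear no_linear_fixed

end CfsgLib.GW.Top
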