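import Cfsg.Agent.GW.Eight.Setting
import Cfsg.Agent.GW.CaseI.Setting
import Cfsg.Agent.GWApps.Dihedral
import Cfsg.Agent.Classical.PSLTwoSub
import Cfsg.Agent.Classical.PSLTwo

/-!
# Gorenstein–Walter: the shape of proper subgroups in a minimal counterexample
-/

set_option autoImplicit false
set_option linter.style.haveILetI false
set_option linter.unusedSectionVars false

namespace CfsgLib.GW.Top

open Subgroup CfsgLib
open CfsgLib.NormCyclic (Inv)

universe u

/-- The theorem of Gorenstein and Walter for groups of order less than `N`. -/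
def Below (N : ℕ) : Prop :=
  ∀ (X : Type u) [Group X] [Finite X] [Group.IsPerfect X], Nat.card X < N →
    ∀ (S : Sylow 2 X) (n : ℕ), 2 ≤ n → Nonempty ((S : Subgroup X) ≃* DihedralGroup n) →
    (∃ (F : Type) (_ : Field F) (_ : Fintype F), Odd (Fintype.card F) ∧ 3 < Fintype.card F ∧
        Nonempty (X ⧸ Cfsg.oddCore X ≃* Matrix.ProjectiveSpecialLinearGroup (Fin 2) F)) ∨
      Nonempty (X ⧸ Cfsg.oddCore X ≃* alternatingGroup (Fin 7))

/-- `PSL(2, q)` has trivial centre. -/
theorem center_psl (F : Type) [Field F] [Fintype F] (hodd : Odd (Fintype.card F)) :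
    center (Matrix.ProjectiveSpecialLinearGroup (Fin 2) F) = ⊥ := by
  classical
  have h2 : 1 < Fintype.card F := Fintype.one_lt_card
  obtain ⟨k, hk⟩ := hodd
  by_cases h3 : Fintype.card F = 3
  · obtain ⟨e⟩ := CfsgLib.Linear.Small.nonempty_psl_two_three (F := F) h3
    rw [eq_bot_iff]
    intro x hx
    have hm : e x ∈ center (alternatingGroup (Fin 4)) :=
      mem_center_iff.2 fun a => by rw [← e.apply_symm_apply a, ← map_mul, ← map_mul, mem_center_iff.1 hx]
    rw [alternatingGroup.center_eq_bot (by simp), mem_bot] at hm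
    exact mem_bot.2 (e.injective (hm.trans (map_one e).symm))
  · have h4 : 4 ≤ Nat.card F := by rw [Nat.card_eq_fintype_card]; omega
    haveI := CfsgLib.Linear.PSLTwo.isSimple (F := F) h4
    rcases (show (center (Matrix.ProjectiveSpecialLinearGroup (Fin 2) F)).Normal from
      inferInstance).eq_bot_or_eq_top with h | h
    · exact h
    · exfalso
      refine CfsgLib.Linear.PSLTwo.not_solvable (F := F) h4 (Group.isSolvable_of_comm fun x y => ?_)
      exact (mem_center_iff.1 (h ▸ mem_top x) y).symm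

/-- An automorphism commuting with all inner ones of a group without centre is trivial. -/
theorem eq_one_of_commute_inner {P : Type*} [Group P] (hc : center P = ⊥) {ψ : MulAut P}
    (h : ∀ p : P, ψ * MulAut.conj p = MulAut.conj p * ψ) : ψ = 1 := by
  refine MulEquiv.ext fun p => ?_
  have hm : p⁻¹ * ψ p ∈ center P := mem_center_iff.2 fun q => by
    obtain ⟨r, rfl⟩ := ψ.surjective q
    have h1 : ψ (p * r * p⁻¹) = p * ψ r * p⁻¹ := DFunLike.congr_fun (h p) r
    rw [map_mul, map_mul, map_inv] at h1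
    calc ψ r * (p⁻¹ * ψ p) = p⁻¹ * (p * ψ r * p⁻¹) * ψ p := by group
      _ = p⁻¹ * (ψ p * ψ r * (ψ p)⁻¹) * ψ p := by rw [h1]
      _ = p⁻¹ * ψ p * ψ r := by group
  rw [hc, mem_bot] at hm
  exact (inv_mul_eq_one.1 hm).symm

/-- In a nilpotent group no involution pattern `x ~ y`, `x ~ x * y` occurs. -/
theorem eq_one_of_conj_pair {Q : Type*} [Group Q] [Group.IsNilpotent Q] {x y g h : Q}
    (hg : g * x * g⁻¹ = y) (hh : h * x * h⁻¹ = x * y) : x = 1 := by
  obtain ⟨n, hn⟩ := (Subgroup.nilpotent_iff_lowerCentralSeries (G := Q)).1 inferInstance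
  suffices ∀ k, x ∈ (⊤ : Subgroup Q).lowerCentralSeries k by
    have h1 := this n
    rwa [hn, mem_bot] at h1
  intro k
  induction k with
  | zero => exact mem_top x
  | succ k ih =>
    have key : ∀ c : Q, c * x * c⁻¹ * x⁻¹ ∈ (⊤ : Subgroup Q).lowerCentralSeries (k + 1) := fun c => by
      rw [Subgroup.lowerCentralSeries_succ, commutator_comm]
      exact commutator_mem_commutator (mem_top c) ih
    have hn' : ((⊤ : Subgroup Q).lowerCentralSeries (k + 1)).Normal := inferInstance
    have hy : y ∈ (⊤ : Subgroup Q).lowerCentralSeries (k + 1) := by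
      have h1 := hn'.conj_mem _ (key h) x⁻¹
      rwa [hh, show x⁻¹ * (x * y * x⁻¹) * x⁻¹⁻¹ = y by group] at h1
    have h2 := mul_mem (inv_mem (key g)) hy
    rwa [hg, show (y * x⁻¹)⁻¹ * y = x by group] at h2

variable {G : Type u} [Group G] [Finite G]

/-- An involution is outside the odd core. -/
theorem inv_not_mem_oddCore {M : Subgroup G} {v : M} (hv : v * v = 1) (h1 : v ≠ 1) :
    v ∉ Cfsg.oddCore ↥M := fun h => h1 <| by
  refine orderOf_eq_one_iff.1 (Nat.eq_one_of_dvd_coprimes
    (Nat.coprime_two_left.2 (DGroup.odd_oddCore ↥M)) ?_ (Subgroup.orderOf_dvd_natCard _ h))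
  exact orderOf_dvd_of_pow_eq_one (by rw [sq, hv])

/-- A fused four group keeps a quotient by the odd core from being a 2-group. -/
theorem not_isPGroup_of_fused {M : Subgroup G} {c v : G} (hc : Inv c) (hf : Eight.Fused M c v) :
    ¬ IsPGroup 2 (↥M ⧸ Cfsg.oddCore ↥M) := by
  intro hp
  haveI : Fact (Nat.Prime 2) := ⟨Nat.prime_two⟩
  haveI := hp.isNilpotent
  obtain ⟨hcM, hvM, ⟨g, hg, e1⟩, h, hh, e2⟩ := hf
  refine inv_not_mem_oddCore (v := ⟨c, hcM⟩) (Subtype.ext hc.1) (fun e => hc.2 (congrArg Subtype.val e))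
    ((QuotientGroup.eq_one_iff _).1 (eq_one_of_conj_pair (y := ((⟨v, hvM⟩ : M) : ↥M ⧸ Cfsg.oddCore ↥M))
      (g := ((⟨g, hg⟩ : M) : ↥M ⧸ Cfsg.oddCore ↥M)) (h := ((⟨h, hh⟩ : M) : ↥M ⧸ Cfsg.oddCore ↥M)) ?_ ?_))
  · rw [← QuotientGroup.mk_inv, ← QuotientGroup.mk_mul, ← QuotientGroup.mk_mul]
    exact congrArg _ (Subtype.ext e1)
  · rw [← QuotientGroup.mk_inv, ← QuotientGroup.mk_mul, ← QuotientGroup.mk_mul, ← QuotientGroup.mk_mul]
    exact congrArg _ (Subtype.ext e2)

/-- A proper subgroup with a four group whose quotient by the odd core is not a 2-group. -/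
theorem shape_of_below (hlt : Below.{u} (Nat.card G)) {M : Subgroup G} (hM : M ≠ ⊤) (T : Sylow 2 G)
    {n : ℕ} (e : (T : Subgroup G) ≃* DihedralGroup n) {a b : G} (ha : Inv a) (hb : Inv b)
    (hab : Commute a b) (hne : a ≠ b) (haM : a ∈ M) (hbM : b ∈ M)
    (hp : ¬ IsPGroup 2 (↥M ⧸ Cfsg.oddCore ↥M)) : Eight.LocalShape M := by
  classical
  haveI : Fact (Nat.Prime 2) := ⟨Nat.prime_two⟩
  set O := Cfsg.oddCore ↥M with hO
  haveI : O.Normal := DGroup.normal_oddCore _
  -- the four group in a Sylow 2-subgroup of `M`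
  set a' : M := ⟨a, haM⟩
  set b' : M := ⟨b, hbM⟩
  have hexp : ∀ x ∈ closure ({a', b'} : Set M), x * x = 1 := by
    intro x hx
    haveI : IsMulCommutative (closure ({a', b'} : Set M)) := isMulCommutative_closure (by
      rintro x (rfl | rfl) y (rfl | rfl) <;>
        first | rfl | exact Subtype.ext hab.eq | exact Subtype.ext hab.eq.symm)
    refine closure_induction (p := fun x _ => x * x = 1) ?_ (one_mul 1) ?_ ?_ hx
    · rintro x (rfl | rfl)
      exacts [Subtype.ext ha.1, Subtype.ext hb.1]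
    · intro x w hx hw h1 h2
      have hc : w * x = x * w := setLike_mul_comm hw hx
      calc x * w * (x * w) = x * (w * x) * w := by group
        _ = x * x * (w * w) := by rw [hc]; group
        _ = 1 := by rw [h1, h2, one_mul]
    · intro x _ h1; rw [← mul_inv_rev, h1, inv_one]
  have hV : IsPGroup 2 (closure ({a', b'} : Set M)) := fun x => ⟨1, Subtype.ext (by
    rw [pow_one, SubmonoidClass.coe_pow, sq]; exact hexp x x.2)⟩
  obtain ⟨S, hVS⟩ := hV.exists_le_sylow
  obtain ⟨f, hf⟩ := GWApps.embeds_sylow T (S.2.map M.subtype)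
  let eS := equivMapOfInjective (S : Subgroup M) M.subtype M.subtype_injective
  obtain ⟨m, hm, ⟨eD⟩⟩ := GWApps.subgroup_dihedral (e.toMonoidHom.comp (f.comp eS.toMonoidHom))
    (e.injective.comp (hf.comp eS.injective)) (fun h => by
      haveI := h
      refine hne (congrArg Subtype.val (GWApps.eq_of_invol (C := (S : Subgroup M))
        (hVS (subset_closure (Set.mem_insert a' _))) (hVS (subset_closure (Or.inr rfl)))
        (Subtype.ext ha.1) (Subtype.ext hb.1) (fun h1 => ha.2 (congrArg Subtype.val h1))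
        (fun h1 => hb.2 (congrArg Subtype.val h1)))))
  set Q := ↥M ⧸ O
  set π : ↥M →* Q := QuotientGroup.mk' O
  let SQ : Sylow 2 Q := S.mapSurjective (QuotientGroup.mk'_surjective O)
  have hinj : Function.Injective (π.subgroupMap (S : Subgroup M)) := by
    refine (injective_iff_map_eq_one _).2 fun x hx => Subtype.ext ?_
    have hxO : (x : M) ∈ O := (QuotientGroup.eq_one_iff _).1 (congrArg Subtype.val hx)
    obtain ⟨k, hk⟩ := S.2 x
    refine orderOf_eq_one_iff.1 (Nat.eq_one_of_dvd_coprimes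
      ((Nat.coprime_two_left.2 (DGroup.odd_oddCore ↥M)).pow_left k) ?_ (Subgroup.orderOf_dvd_natCard _ hxO))
    exact orderOf_dvd_of_pow_eq_one (congrArg Subtype.val hk)
  let eQ : (SQ : Subgroup Q) ≃* (S : Subgroup M) :=
    (MulEquiv.ofBijective _ ⟨hinj, π.subgroupMap_surjective _⟩).symm
  have hcard : ∀ R : Subgroup Q, Nat.card R < Nat.card G := fun R => by
    refine lt_of_le_of_lt ((card_le_card_group R).trans
      (Nat.card_le_card_of_surjective _ (QuotientGroup.mk'_surjective O))) ?_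
    exact lt_of_le_of_ne (card_le_card_group M) fun h => hM (card_eq_iff_eq_top M |>.1 h)
  have hOQ : Cfsg.oddCore Q = ⊥ := LocalB.oddCore_quotient
  rcases GWApps.dihedral_structure_of (fun R _ S' m' hm' hD => hlt R (hcard R) S' m' hm' hD) hOQ SQ
    (eQ.trans eD) with h2 | ⟨F, _, _, hodd, K, hK, ⟨eK⟩⟩ | h7
  · exact absurd h2 hp
  · set P := Matrix.ProjectiveSpecialLinearGroup (Fin 2) F
    set I := (MulAut.conj : P →* MulAut P).range with hI
    let φ : ↥M →* MulAut P := K.subtype.comp (eK.toMonoidHom.comp π)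
    have hker : ∀ x, φ x = 1 ↔ x ∈ O := fun x => by
      show (eK (π x) : MulAut P) = 1 ↔ _
      rw [OneMemClass.coe_eq_one, map_eq_one_iff _ eK.injective]
      exact QuotientGroup.eq_one_iff x
    haveI : I.Normal := ⟨fun ψ hψ χ => by
      obtain ⟨p, rfl⟩ := hψ
      exact ⟨χ p, MulEquiv.ext fun x => by simp⟩⟩
    have hsur : ∀ p : P, ∃ x : ↥M, φ x = MulAut.conj p := fun p => by
      obtain ⟨x, hx⟩ := QuotientGroup.mk'_surjective O (eK.symm ⟨MulAut.conj p, hK ⟨p, rfl⟩⟩)
      exact ⟨x, by show (eK (π x) : MulAut P) = _; rw [hx, eK.apply_symm_apply]⟩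
    have hc := center_psl F hodd
    have hci : Function.Injective (MulAut.conj : P →* MulAut P) := by
      refine (injective_iff_map_eq_one _).2 fun p hp1 => ?_
      have : p ∈ center P := mem_center_iff.2 fun q =>
        (mul_inv_eq_iff_eq_mul.1 (DFunLike.congr_fun hp1 q)).symm
      rwa [hc, mem_bot] at this
    refine ⟨I.comap φ, Normal.comap inferInstance φ, fun x hx => ?_, fun x hx => ?_, Or.inl ?_⟩
    · show φ x ∈ I
      rw [(hker x).2 hx]; exact one_mem _
    · refine (hker x).1 (eq_one_of_commute_inner hc fun p => ?_)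
      obtain ⟨y, hy⟩ := hsur p
      have h1 := (hker _).2 (hx y (show φ y ∈ I by rw [hy]; exact ⟨p, rfl⟩))
      rw [map_mul, map_mul, map_mul, map_inv, map_inv, mul_inv_eq_one, mul_inv_eq_iff_eq_mul, hy] at h1
      exact h1
    · refine ⟨F, inferInstance, inferInstance, hodd,
        (MonoidHom.ofInjective hci).symm.toMonoidHom.comp (φ.subgroupComap I), ?_, ?_⟩
      · intro p
        obtain ⟨x, hx⟩ := hsur p
        refine ⟨⟨x, show φ x ∈ I by rw [hx]; exact ⟨p, rfl⟩⟩, ?_⟩
        apply (MonoidHom.ofInjective hci).injective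
        exact ((MonoidHom.ofInjective hci).apply_symm_apply _).trans (Subtype.ext hx)
      · ext x
        rw [MonoidHom.mem_ker, mem_subgroupOf, ← hker]
        exact (map_eq_one_iff _ (MonoidHom.ofInjective hci).symm.injective).trans Subtype.ext_iff
  · obtain ⟨e7⟩ := h7
    refine ⟨⊤, inferInstance, le_top, fun x hx => ?_, Or.inr ?_⟩
    · have hm : e7 (π x) ∈ center (alternatingGroup (Fin 7)) := mem_center_iff.2 fun q => by
        obtain ⟨y, hy⟩ := QuotientGroup.mk'_surjective O (e7.symm q)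
        have h1 : π (x * y * x⁻¹ * y⁻¹) = 1 := (QuotientGroup.eq_one_iff _).2 (hx y (mem_top y))
        rw [map_mul, map_mul, map_mul, map_inv, map_inv, mul_inv_eq_one, mul_inv_eq_iff_eq_mul] at h1
        rw [← e7.apply_symm_apply q, ← map_mul, ← map_mul, ← hy, h1]
      rw [alternatingGroup.center_eq_bot (by simp), mem_bot, map_eq_one_iff _ e7.injective] at hm
      exact (QuotientGroup.eq_one_iff x).1 hm
    · refine ⟨e7.toMonoidHom.comp (π.comp (⊤ : Subgroup ↥M).subtype), fun q => ?_, ?_⟩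
      · obtain ⟨y, hy⟩ := QuotientGroup.mk'_surjective O (e7.symm q)
        exact ⟨⟨y, mem_top y⟩, by show e7 (π y) = q; rw [hy, e7.apply_symm_apply]⟩
      · ext x
        rw [MonoidHom.mem_ker, mem_subgroupOf]
        exact (map_eq_one_iff _ e7.injective).trans (QuotientGroup.eq_one_iff _)

/-- The induction hypothesis of the setting with Sylow 2-subgroups of order at least eight. -/
theorem shape_eight (hlt : Below.{u} (Nat.card G)) {M : Subgroup G} (hM : M ≠ ⊤) (T : Sylow 2 G)
    {n : ℕ} (e : (T : Subgroup G) ≃* DihedralGroup n) {c v : G} (hc : Inv c) (hv : Inv v)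
    (hcv : Commute c v) (hne : v ≠ c) (hf : Eight.Fused M c v) : Eight.LocalShape M :=
  shape_of_below hlt hM T e hc hv hcv hne.symm hf.1 hf.2.1 (not_isPGroup_of_fused hc hf)

/-- The induction hypothesis of the setting with a four group as Sylow 2-subgroup. -/
theorem shape_four (hlt : Below.{u} (Nat.card G)) {M : Subgroup G} (hM : M ≠ ⊤)
    (h4 : ∀ S : Sylow 2 G, Nat.card ↥(S : Subgroup G) = 4) (T : Sylow 2 G)
    {n : ℕ} (e : (T : Subgroup G) ≃* DihedralGroup n) {a b : G} (ha : Inv a) (hb : Inv b)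
    (hab : Commute a b) (hne : a ≠ b) (haM : a ∈ M) (hbM : b ∈ M)
    (hf : ∃ g ∈ M, g * a * g⁻¹ = b ∨ g * a * g⁻¹ = a * b) : CaseI.LocalShape M := by
  classical
  haveI : Fact (Nat.Prime 2) := ⟨Nat.prime_two⟩
  set O := Cfsg.oddCore ↥M with hO
  haveI : O.Normal := DGroup.normal_oddCore _
  have hv2 : padicValNat 2 (Nat.card G) = 2 := by
    rw [← pow_right_injective₀ (a := 2) two_pos (by norm_num) |>.eq_iff]
    rw [← Nat.factorization_def _ Nat.prime_two, ← T.card_eq_multiplicity, h4 T]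
    norm_num
  have h8 : ∀ k, k ∣ Nat.card G → ¬ 8 ∣ k := fun k hk h => by
    have h2 := (padicValNat_dvd_iff_le (p := 2) (n := 3) Nat.card_pos.ne').1 (by
      rw [show (2 : ℕ) ^ 3 = 8 by norm_num]; exact h.trans hk)
    omega
  have hp : ¬ IsPGroup 2 (↥M ⧸ O) := by
    intro hp
    obtain ⟨k, hk⟩ := IsPGroup.iff_card.1 hp
    have hdvd : Nat.card (↥M ⧸ O) ∣ Nat.card G :=
      (card_quotient_dvd_card O).trans (card_subgroup_dvd_card M)
    have hk2 : k ≤ 2 := by
      by_contra h
      exact h8 _ hdvd (by rw [hk, show (8 : ℕ) = 2 ^ 3 by norm_num]; exact pow_dvd_pow 2 (by omega))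
    obtain ⟨g, hg, hgb⟩ := hf
    set π : ↥M →* ↥M ⧸ O := QuotientGroup.mk' O
    have hcomm : ∀ x y : ↥M ⧸ O, x * y = y * x := by
      intro x y
      rcases Nat.lt_or_ge k 2 with h | h
      · haveI : IsCyclic (↥M ⧸ O) := by
          rcases Nat.eq_zero_or_pos k with h0 | h0
          · haveI : Subsingleton (↥M ⧸ O) :=
              (Nat.card_eq_one_iff_unique.1 (by rw [hk, h0, pow_zero])).1
            infer_instance
          · exact isCyclic_of_prime_card (p := 2) (by rw [hk, show k = 1 by omega, pow_one])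
        letI := IsCyclic.commGroup (α := ↥M ⧸ O)
        exact mul_comm x y
      · letI := IsPGroup.commGroupOfCardEqPrimeSq (p := 2) (G := ↥M ⧸ O) (by rw [hk, show k = 2 by omega])
        exact mul_comm x y
    have hfix : ∀ (v : G) (hv : v ∈ M), g * a * g⁻¹ = v → π ⟨v, hv⟩ = π ⟨a, haM⟩ := fun v hv h => by
      rw [show (⟨v, hv⟩ : M) = ⟨g, hg⟩ * ⟨a, haM⟩ * ⟨g, hg⟩⁻¹ from Subtype.ext h.symm, map_mul, map_mul,
        hcomm, ← mul_assoc, ← map_mul, inv_mul_cancel, map_one, one_mul]
    rcases hgb with h | h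
    · have h1 := hfix b hbM h
      refine inv_not_mem_oddCore (v := ⟨a * b, mul_mem haM hbM⟩) (Subtype.ext ?_) ?_
        ((QuotientGroup.eq_one_iff _).1 ?_)
      · show a * b * (a * b) = 1
        calc a * b * (a * b) = a * (b * a) * b := by group
          _ = a * a * (b * b) := by rw [← hab.eq]; group
          _ = 1 := by rw [ha.1, hb.1, one_mul]
      · exact fun e => hne ((eq_inv_of_mul_eq_one_left (congrArg Subtype.val e)).trans
          (inv_eq_of_mul_eq_one_right hb.1))
      · show π (⟨a, haM⟩ * ⟨b, hbM⟩) = 1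
        rw [map_mul, h1, ← map_mul, show (⟨a, haM⟩ : M) * ⟨a, haM⟩ = 1 from Subtype.ext ha.1, map_one]
    · have h1 := hfix (a * b) (mul_mem haM hbM) h
      refine inv_not_mem_oddCore (v := ⟨b, hbM⟩) (Subtype.ext hb.1) (fun e => hb.2 (congrArg Subtype.val e))
        ((QuotientGroup.eq_one_iff _).1 ?_)
      show π ⟨b, hbM⟩ = 1
      rw [show (⟨a * b, mul_mem haM hbM⟩ : M) = ⟨a, haM⟩ * ⟨b, hbM⟩ from rfl, map_mul] at h1
      exact mul_eq_left.1 h1
  obtain ⟨L, hLn, hOL, -, hL⟩ := shape_of_below hlt hM T e ha hb hab hne haM hbM hp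
  have hLM : Nat.card L ∣ Nat.card G := (card_subgroup_dvd_card L).trans (card_subgroup_dvd_card M)
  rcases hL with ⟨F, _, _, hodd, f, hfs, hfk⟩ | ⟨f, hfs, -⟩
  swap
  · exfalso
    refine h8 _ ((card_dvd_of_surjective f hfs).trans hLM) ?_
    rw [Nat.card_eq_fintype_card, card_alternatingGroup, Fintype.card_fin]
    decide
  have hP : Nat.card (Matrix.ProjectiveSpecialLinearGroup (Fin 2) F) ∣ Nat.card L :=
    card_dvd_of_surjective f hfs
  have hcP := CfsgLib.Linear.PSLTwo.mul_card (F := F)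
  rw [Nat.card_eq_fintype_card (α := F)] at hcP
  obtain ⟨j, hj⟩ := hodd
  have h2P : 2 * Nat.card (Matrix.ProjectiveSpecialLinearGroup (Fin 2) F) =
      Fintype.card F * (4 * (j * (j + 1))) := by
    rw [show Nat.gcd 2 (Fintype.card F - 1) = 2 by
      rw [hj, Nat.add_sub_cancel]; exact Nat.gcd_eq_left (dvd_mul_right 2 j)] at hcP
    rw [hcP]
    congr 1
    rw [hj, show (2 * j + 1) ^ 2 = 4 * (j * (j + 1)) + 1 by ring, Nat.add_sub_cancel]
  obtain ⟨i, hi⟩ := Nat.even_mul_succ_self j
  refine ⟨L, hLn, hOL, ?_, F, inferInstance, inferInstance, ⟨j, hj⟩, ?_, f, hfs, hfk⟩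
  · by_contra hev
    rw [Nat.not_odd_iff_even, even_iff_two_dvd] at hev
    refine h8 _ (card_subgroup_dvd_card M) ?_
    rw [show (8 : ℕ) = 4 * 2 by norm_num, ← L.card_mul_index]
    refine Nat.mul_dvd_mul (Dvd.dvd.trans ⟨Fintype.card F * i, ?_⟩ hP) hev
    rw [hi] at h2P; linarith
  · have h8' : ¬ 4 ∣ j * (j + 1) := by
      rintro ⟨l, hl⟩
      refine h8 _ (hP.trans hLM) ⟨Fintype.card F * l, ?_⟩
      rw [hl] at h2P; linarith
    have hq : j % 4 = 1 ∨ j % 4 = 2 := by
      have h1 : j % 4 ≠ 0 := fun h => h8' (Dvd.dvd.mul_right (Nat.dvd_of_mod_eq_zero h) _)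
      have h2 : j % 4 ≠ 3 := fun h => h8' (Dvd.dvd.mul_left (Nat.dvd_of_mod_eq_zero (by omega)) _)
      omega
    omega

end CfsgLib.GW.Top
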